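import Groth.Prelude.Def_HTop
import Groth.Agent.S7409
import Groth.Agent.PnCoh.Chow.Proper
import Groth.Agent.SGA1Q.SigmaFinite
import Groth.Agent.ModPairLib.CoprodAdm

/-!
Proper surjections which locally lift into a family: locality, base change and composition of ph coverings.
-/

set_option backward.isDefEq.respectTransparency false
set_option backward.isDefEq.respectTransparency.types false

universe w w' u

namespace Groth.Agent.HTopPh

open CategoryTheory CategoryTheory.Limits AlgebraicGeometry HTop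

variable {U U' T : Scheme.{u}}

/-- A proper surjection to `U` whose points have neighbourhoods lifting into members of `E`. -/
def PhLifts (g : U ⟶ T) (E : PreZeroHypercover.{w} T) : Prop :=
  ∃ (Z : Scheme.{u}) (q : Z ⟶ U), IsProper q ∧ Surjective q ∧
    ∀ z : Z, ∃ (W : Z.Opens) (i : E.I₀) (h : (W : Scheme.{u}) ⟶ E.X i), z ∈ W ∧ h ≫ E.f i = W.ι ≫ q ≫ g

theorem phLifts_of_standardPh {g : U ⟶ T} {E : PreZeroHypercover.{w} T} {F : PreZeroHypercover.{w'} U}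
    (hF : IsStandardPh F) (hr : RefinesOver g F E) : PhLifts g E := by
  obtain ⟨Z, q, ι, hq, hs, hι, hιq, hcov⟩ := hF.exists_proper
  refine ⟨Z, q, hq, hs, fun z => ?_⟩
  obtain ⟨j, hj⟩ := hcov z
  haveI := hι j
  obtain ⟨i, h, hh⟩ := hr j
  refine ⟨(ι j).opensRange, i, (ι j).isoOpensRange.inv ≫ h, hj, ?_⟩
  rw [Category.assoc, hh, ← hιq j, Category.assoc, ← Scheme.Hom.isoOpensRange_inv_comp, Category.assoc]

theorem PhLifts.exists_standardPh [IsAffine U] {g : U ⟶ T} {E : PreZeroHypercover.{w} T} (h : PhLifts g E) :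
    ∃ F : PreZeroHypercover.{0} U, IsStandardPh F ∧ RefinesOver g F E := by
  obtain ⟨Z, q, hq, hs, hl⟩ := h
  haveI := hq
  haveI : CompactSpace Z := QuasiCompact.compactSpace_of_compactSpace q
  have hloc : ∀ z : Z, ∃ (W : Z.Opens) (i : E.I₀) (h : (W : Scheme.{u}) ⟶ E.X i),
      z ∈ W ∧ IsAffineOpen W ∧ h ≫ E.f i = W.ι ≫ q ≫ g := fun z => by
    obtain ⟨W, i, h, hz, hh⟩ := hl z
    obtain ⟨_, ⟨W', hW', rfl⟩, hz', hle⟩ := Z.isBasis_affineOpens.exists_subset_of_mem_open hz W.2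
    refine ⟨W', i, Z.homOfLE hle ≫ h, hz', hW', ?_⟩
    rw [Category.assoc, hh, Scheme.homOfLE_ι_assoc]
  choose W i k hz hW hk using hloc
  obtain ⟨s, hs'⟩ := isCompact_univ.elim_finite_subcover (fun z : Z => (W z : Set Z)) (fun z => (W z).2)
    fun z _ => Set.mem_iUnion.2 ⟨z, hz z⟩
  let e := s.equivFin.symm
  refine ⟨⟨Fin s.card, fun j => (W (e j).1 : Scheme.{u}), fun j => (W (e j).1).ι ≫ q⟩,
    ⟨inferInstance, inferInstanceAs (Finite (Fin s.card)), fun j => hW (e j).1, Z, q, fun j => (W (e j).1).ι, hq, hs,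
      fun j => inferInstanceAs (IsOpenImmersion (W (e j).1).ι), fun j => rfl, fun y => ?_⟩,
    fun j => ⟨i (e j).1, k (e j).1, by simpa using hk (e j).1⟩⟩
  obtain ⟨z, hzs, hy⟩ := Set.mem_iUnion₂.1 (hs' (Set.mem_univ y))
  refine ⟨e.symm ⟨z, hzs⟩, ⟨y, ?_⟩, rfl⟩
  show y ∈ W (e (e.symm ⟨z, hzs⟩)).1
  rwa [Equiv.apply_symm_apply]

theorem PhLifts.comp {g : U ⟶ T} {E : PreZeroHypercover.{w} T} (h : PhLifts g E) (f : U' ⟶ U) :
    PhLifts (f ≫ g) E := by
  obtain ⟨Z, q, hq, hs, hl⟩ := h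
  haveI := hq
  haveI := hs
  refine ⟨pullback f q, pullback.fst f q, inferInstance, inferInstance, fun z => ?_⟩
  obtain ⟨W, i, h, hz, hh⟩ := hl (pullback.snd f q z)
  refine ⟨pullback.snd f q ⁻¹ᵁ W, i, (pullback.snd f q ∣_ W) ≫ h, hz, ?_⟩
  rw [Category.assoc, hh, morphismRestrict_ι_assoc, ← pullback.condition_assoc]

/-- A proper surjection to a quasi-compact open extends to one of the whole scheme. -/
theorem exists_proper_extension [CompactSpace U] [QuasiSeparatedSpace U] (V : U.Opens) [QuasiCompact V.ι]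
    {Y : Scheme.{u}} (q : Y ⟶ V) [IsProper q] [Surjective q] :
    ∃ (P : Scheme.{u}) (p : P ⟶ U), IsProper p ∧ Surjective p ∧
      ∃ m : (p ⁻¹ᵁ V).toScheme ⟶ Y, m ≫ q = p ∣_ V := by
  obtain ⟨n, Y', π, j, hj, hjπ, hπ, hπs⟩ := Groth.Agent.S7409.result (q ≫ V.ι)
  haveI := hj
  haveI := hπ
  haveI := hπs
  haveI : IsProper (CohB1.ProjSpaceOver.toBase n U) := by
    haveI : IsProper (CohB1.ProjSpace.toSpec n (ULift.{u} ℤ)) := PnCoh.Chow.isProper_toSpec n _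
    unfold CohB1.ProjSpaceOver.toBase CohB1.ProjSpaceOver
    infer_instance
  haveI : QuasiCompact (j ≫ CohB1.ProjSpaceOver.toBase n U) := by rw [hjπ]; infer_instance
  haveI : QuasiCompact j := QuasiCompact.of_comp j (CohB1.ProjSpaceOver.toBase n U)
  let c := j.imageι ≫ CohB1.ProjSpaceOver.toBase n U
  haveI : IsProper c := inferInstanceAs (IsProper (_ ≫ _))
  have hc : j.toImage ≫ c = π ≫ q ≫ V.ι := by
    rw [Scheme.Hom.toImage_imageι_assoc]; exact hjπ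
  have hle : ⊤ ≤ j.toImage ⁻¹ᵁ (c ⁻¹ᵁ V) := fun y _ => by
    show c (j.toImage y) ∈ V
    rw [← Scheme.Hom.comp_apply, hc, Scheme.Hom.comp_apply, Scheme.Hom.comp_apply]
    exact ((q (π y)) : V).2
  let r : Y' ⟶ (c ⁻¹ᵁ V).toScheme := IsOpenImmersion.lift (c ⁻¹ᵁ V).ι j.toImage (by
    rintro _ ⟨y, rfl⟩
    rw [Scheme.Opens.range_ι]
    exact hle (show y ∈ (⊤ : Y'.Opens) from trivial))
  have hr : r ≫ (c ⁻¹ᵁ V).ι = j.toImage := IsOpenImmersion.lift_fac _ _ _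
  have hrc : r ≫ (c ∣_ V) = π ≫ q := by
    rw [← cancel_mono V.ι, Category.assoc, morphismRestrict_ι, reassoc_of% hr, hc, Category.assoc]
  haveI : IsOpenImmersion (r ≫ (c ⁻¹ᵁ V).ι) := by rw [hr]; infer_instance
  haveI : IsOpenImmersion r := IsOpenImmersion.of_comp r (c ⁻¹ᵁ V).ι
  haveI : IsProper (c ∣_ V) := IsZariskiLocalAtTarget.restrict (P := @IsProper) ‹IsProper c› V
  haveI : IsProper (r ≫ (c ∣_ V)) := by rw [hrc]; infer_instance
  haveI : IsProper r := IsProper.of_comp r (c ∣_ V)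
  haveI : Surjective r := ⟨fun y => by
    by_contra hy
    have ho : IsOpen ((c ⁻¹ᵁ V).ι '' (Set.range r)ᶜ) :=
      (c ⁻¹ᵁ V).ι.isOpenEmbedding.isOpenMap _ r.isClosedMap.isClosed_range.isOpen_compl
    obtain ⟨_, ⟨z, hz, rfl⟩, y', hy'⟩ := j.toImage.denseRange.inter_open_nonempty _ ho ⟨_, y, hy, rfl⟩
    refine hz ⟨y', (c ⁻¹ᵁ V).ι.isOpenEmbedding.injective ?_⟩
    rw [← Scheme.Hom.comp_apply, hr]
    exact hy'⟩
  haveI : IsIso r := isIso_of_isOpenImmersion_of_opensRange_eq_top r (TopologicalSpace.Opens.ext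
    (Set.range_eq_univ.mpr r.surjective))
  let I : U.IdealSheafData := Scheme.IdealSheafData.vanishingIdeal ⟨(V : Set U)ᶜ, V.2.isClosed_compl⟩
  let Z : ULift.{u} Bool → Scheme.{u} := fun b => bif b.down then j.image else I.subscheme
  let d : ∀ b, Z b ⟶ U := fun b => match b with
    | ⟨true⟩ => c
    | ⟨false⟩ => I.subschemeι
  have hIV : ∀ x, I.subschemeι x ∉ V := fun x hx => by
    have h : I.subschemeι x ∈ (I.support : Set U) := I.range_subschemeι ▸ ⟨x, rfl⟩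
    rw [Scheme.IdealSheafData.coe_support_vanishingIdeal] at h
    exact h hx
  haveI : ∀ b, IsProper (d b) := by
    rintro ⟨_ | _⟩
    · exact inferInstanceAs (IsProper I.subschemeι)
    · exact inferInstanceAs (IsProper c)
  let p : ∐ Z ⟶ U := Limits.Sigma.desc d
  haveI hp : IsProper p := by
    haveI : IsFinite (Limits.Sigma.desc fun _ : ULift.{u} Bool => 𝟙 U) := SGA1Q.isFinite_sigmaDesc _ fun _ => inferInstance
    haveI : IsProper (Limits.Sigma.map d) := ModPairLib.isProper_sigmaMap d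
    rw [show p = Limits.Sigma.map d ≫ Limits.Sigma.desc (fun _ : ULift.{u} Bool => 𝟙 U) from
      Limits.Sigma.hom_ext _ _ fun b => by simp [p]]
    infer_instance
  have hps : Surjective p := ⟨fun x => by
    by_cases hx : x ∈ V
    · obtain ⟨y, hy⟩ := (π ≫ q).surjective ⟨x, hx⟩
      refine ⟨Limits.Sigma.ι Z ⟨true⟩ (j.toImage y), ?_⟩
      rw [← Scheme.Hom.comp_apply, Limits.Sigma.ι_desc]
      change c (j.toImage y) = x
      rw [← Scheme.Hom.comp_apply, hc, ← Category.assoc, Scheme.Hom.comp_apply, hy]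
      rfl
    · have h : x ∈ Set.range I.subschemeι := by
        rw [Scheme.IdealSheafData.range_subschemeι, Scheme.IdealSheafData.coe_support_vanishingIdeal]
        exact hx
      obtain ⟨z, hz⟩ := h
      refine ⟨Limits.Sigma.ι Z ⟨false⟩ z, ?_⟩
      rw [← Scheme.Hom.comp_apply, Limits.Sigma.ι_desc]
      exact hz⟩
  let s : (c ⁻¹ᵁ V).toScheme ⟶ (p ⁻¹ᵁ V).toScheme :=
    IsOpenImmersion.lift (p ⁻¹ᵁ V).ι ((c ⁻¹ᵁ V).ι ≫ Limits.Sigma.ι Z ⟨true⟩) (by
      rintro _ ⟨y, rfl⟩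
      rw [Scheme.Opens.range_ι]
      show p _ ∈ V
      rw [← Scheme.Hom.comp_apply, Category.assoc, Limits.Sigma.ι_desc]
      exact y.2)
  have hs : s ≫ (p ⁻¹ᵁ V).ι = (c ⁻¹ᵁ V).ι ≫ Limits.Sigma.ι Z ⟨true⟩ := IsOpenImmersion.lift_fac _ _ _
  haveI : IsOpenImmersion (s ≫ (p ⁻¹ᵁ V).ι) := by rw [hs]; infer_instance
  haveI : IsOpenImmersion s := IsOpenImmersion.of_comp s (p ⁻¹ᵁ V).ι
  haveI : Surjective s := ⟨fun y => by
    have hy : p ((p ⁻¹ᵁ V).ι y) ∈ V := y.2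
    obtain ⟨b, z, hz⟩ := ModPairLib.sigma_surj Z ((p ⁻¹ᵁ V).ι y)
    rw [← hz, ← Scheme.Hom.comp_apply, Limits.Sigma.ι_desc] at hy
    rcases b with ⟨_ | _⟩
    · exact absurd hy (hIV z)
    · refine ⟨⟨z, hy⟩, (p ⁻¹ᵁ V).ι.isOpenEmbedding.injective ?_⟩
      rw [← Scheme.Hom.comp_apply, hs]
      exact hz⟩
  haveI : IsIso s := isIso_of_isOpenImmersion_of_opensRange_eq_top s (TopologicalSpace.Opens.ext
    (Set.range_eq_univ.mpr s.surjective))
  refine ⟨∐ Z, p, hp, hps, inv s ≫ inv r ≫ π, ?_⟩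
  rw [Category.assoc, Category.assoc, ← hrc, IsIso.inv_hom_id_assoc, IsIso.inv_comp_eq, ← cancel_mono V.ι,
    Category.assoc, morphismRestrict_ι, morphismRestrict_ι, reassoc_of% hs, Limits.Sigma.ι_desc]

theorem quasiCompact_opens_ι [QuasiSeparatedSpace U] {V : U.Opens} (hV : IsCompact (V : Set U)) :
    QuasiCompact V.ι := by
  refine ⟨fun A hA hAc => ?_⟩
  rw [V.ι.isOpenEmbedding.isInducing.isCompact_iff, Set.image_preimage_eq_inter_range, Scheme.Opens.range_ι]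
  exact hAc.inter_of_isOpen hV hA V.2

/-- Finitely many proper surjections to quasi-compact opens are dominated by one of the whole scheme. -/
theorem exists_proper_extension_fin [CompactSpace U] [QuasiSeparatedSpace U] : ∀ {n : ℕ} (V : Fin n → U.Opens),
    (∀ a, QuasiCompact (V a).ι) → ∀ (Y : Fin n → Scheme.{u}) (q : ∀ a, Y a ⟶ V a),
      (∀ a, IsProper (q a)) → (∀ a, Surjective (q a)) →
      ∃ (P : Scheme.{u}) (p : P ⟶ U), IsProper p ∧ Surjective p ∧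
        ∀ a, ∃ m : (p ⁻¹ᵁ V a).toScheme ⟶ Y a, m ≫ q a = p ∣_ V a
  | 0, _, _, _, _, _, _ => ⟨U, 𝟙 U, inferInstance, inferInstance, fun a => a.elim0⟩
  | n + 1, V, hV, Y, q, hp, hs => by
    obtain ⟨P, p, hP, hPs, hm⟩ := exists_proper_extension_fin (fun a : Fin n => V a.castSucc) (fun a => hV _)
      (fun a => Y a.castSucc) (fun a => q a.castSucc) (fun a => hp _) (fun a => hs _)
    haveI := hV (Fin.last n)
    haveI := hp (Fin.last n)
    haveI := hs (Fin.last n)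
    obtain ⟨P', p', hP', hPs', hm'⟩ := exists_proper_extension (V (Fin.last n)) (q (Fin.last n))
    let r := pullback.fst p p'
    let r' := pullback.snd p p'
    refine ⟨pullback p p', r ≫ p, inferInstance, inferInstance, Fin.lastCases ?_ fun a => ?_⟩
    · obtain ⟨m, hm⟩ := hm'
      have hle : (r ≫ p) ⁻¹ᵁ V (Fin.last n) ≤ r' ⁻¹ᵁ (p' ⁻¹ᵁ V (Fin.last n)) := fun x hx => by
        show p' (r' x) ∈ V _
        rw [← Scheme.Hom.comp_apply, ← pullback.condition]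
        exact hx
      refine ⟨(pullback p p').homOfLE hle ≫ (r' ∣_ (p' ⁻¹ᵁ V (Fin.last n))) ≫ m, ?_⟩
      rw [Category.assoc, Category.assoc, hm, ← cancel_mono (V (Fin.last n)).ι]
      simp only [Category.assoc, morphismRestrict_ι, morphismRestrict_ι_assoc, Scheme.homOfLE_ι_assoc]
      rw [← pullback.condition]
    · obtain ⟨m, hm⟩ := hm a
      have hle : (r ≫ p) ⁻¹ᵁ V a.castSucc ≤ r ⁻¹ᵁ (p ⁻¹ᵁ V a.castSucc) := fun x hx => hx
      refine ⟨(pullback p p').homOfLE hle ≫ (r ∣_ (p ⁻¹ᵁ V a.castSucc)) ≫ m, ?_⟩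
      rw [Category.assoc, Category.assoc, hm, ← cancel_mono (V a.castSucc).ι]
      simp only [Category.assoc, morphismRestrict_ι, morphismRestrict_ι_assoc, Scheme.homOfLE_ι_assoc]

/-- Lifting is local on a quasi-compact quasi-separated source. -/
theorem phLifts_of_local [CompactSpace U] [QuasiSeparatedSpace U] (g : U ⟶ T) (E : PreZeroHypercover.{w} T)
    (h : ∀ x : U, ∃ V : U.Opens, x ∈ V ∧ PhLifts (V.ι ≫ g) E) : PhLifts g E := by
  have h' : ∀ x : U, ∃ V : U.Opens, x ∈ V ∧ IsAffineOpen V ∧ PhLifts (V.ι ≫ g) E := fun x => by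
    obtain ⟨V, hx, hl⟩ := h x
    obtain ⟨_, ⟨V', hV', rfl⟩, hx', hle⟩ := U.isBasis_affineOpens.exists_subset_of_mem_open hx V.2
    refine ⟨V', hx', hV', ?_⟩
    have := hl.comp (U.homOfLE hle)
    rwa [Scheme.homOfLE_ι_assoc] at this
  choose V hx hV hl using h'
  choose Y q hq hqs hYl using hl
  obtain ⟨s, hs⟩ := isCompact_univ.elim_finite_subcover (fun x : U => (V x : Set U)) (fun x => (V x).2)
    fun x _ => Set.mem_iUnion.2 ⟨x, hx x⟩
  let e := s.equivFin.symm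
  obtain ⟨P, p, hp, hps, hm⟩ := exists_proper_extension_fin (fun a => V (e a).1)
    (fun a => quasiCompact_opens_ι (hV _).isCompact)
    (fun a => Y (e a).1) (fun a => q (e a).1) (fun a => hq _) (fun a => hqs _)
  refine ⟨P, p, hp, hps, fun z => ?_⟩
  obtain ⟨x, hxs, hzx⟩ := Set.mem_iUnion₂.1 (hs (Set.mem_univ (p z)))
  obtain ⟨a, ha⟩ : ∃ a, p z ∈ V (e a).1 := ⟨e.symm ⟨x, hxs⟩, by rw [Equiv.apply_symm_apply]; exact hzx⟩
  obtain ⟨m, hm⟩ := hm a
  obtain ⟨W, i, k, hW, hk⟩ := hYl _ (m ⟨z, ha⟩)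
  let O := (p ⁻¹ᵁ V (e a).1).ι ''ᵁ (m ⁻¹ᵁ W)
  let t : (O : Scheme.{u}) ⟶ (m ⁻¹ᵁ W).toScheme := ((p ⁻¹ᵁ V (e a).1).ι.isoImage (m ⁻¹ᵁ W)).inv
  refine ⟨O, i, t ≫ (m ∣_ W) ≫ k, ⟨⟨z, ha⟩, hW, rfl⟩, ?_⟩
  rw [Category.assoc, Category.assoc, hk, morphismRestrict_ι_assoc, reassoc_of% hm, morphismRestrict_ι_assoc]
  simp [t, O]

theorem phLifts_of_isPhCover {E : PreZeroHypercover.{w} T} (hE : IsPhCover E) [CompactSpace U]
    [QuasiSeparatedSpace U] (g : U ⟶ T) : PhLifts g E := by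
  refine phLifts_of_local g E fun x => ?_
  obtain ⟨_, ⟨A, hA, rfl⟩, hxA, -⟩ := T.isBasis_affineOpens.exists_subset_of_mem_open
    (show g x ∈ (⊤ : T.Opens) from trivial) (⊤ : T.Opens).2
  obtain ⟨F, hF, hr⟩ := hE.2 ⟨A, hA⟩
  refine ⟨g ⁻¹ᵁ A, hxA, ?_⟩
  have := (phLifts_of_standardPh hF hr).comp (g ∣_ A)
  rwa [morphismRestrict_ι] at this

theorem PhLifts.bind [CompactSpace U] [QuasiSeparatedSpace U] {g : U ⟶ T} {E : PreZeroHypercover.{w} T}
    (hE : PhLifts g E) (F : ∀ i, PreZeroHypercover.{w'} (E.X i))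
    (hF : ∀ (i : E.I₀) (W : Scheme.{u}) [IsAffine W] (h : W ⟶ E.X i), PhLifts h (F i)) :
    PhLifts g (E.bind F) := by
  obtain ⟨Z, q, hq, hs, hl⟩ := hE
  haveI := hq
  haveI := hs
  haveI : CompactSpace Z := QuasiCompact.compactSpace_of_compactSpace q
  haveI : QuasiSeparatedSpace Z := quasiSeparatedSpace_of_quasiSeparated q
  have := phLifts_of_local (q ≫ g) (E.bind F) fun z => by
    obtain ⟨W, i, h, hz, hh⟩ := hl z
    obtain ⟨_, ⟨W', hW', rfl⟩, hz', hle'⟩ := Z.isBasis_affineOpens.exists_subset_of_mem_open hz W.2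
    have hle : W' ≤ W := hle'
    haveI : IsAffine (W' : Scheme.{u}) := hW'
    obtain ⟨Y, r, hr, hrs, hrl⟩ := hF i _ (Z.homOfLE hle ≫ h)
    refine ⟨W', hz', Y, r, hr, hrs, fun y => ?_⟩
    obtain ⟨O, i', k, hy, hk⟩ := hrl y
    refine ⟨O, ⟨i, i'⟩, k, hy, ?_⟩
    change k ≫ (F i).f i' ≫ E.f i = _
    rw [reassoc_of% hk, hh, Scheme.homOfLE_ι_assoc]
  obtain ⟨P, p, hp, hps, hpl⟩ := this
  haveI := hp
  haveI := hps
  refine ⟨P, p ≫ q, inferInstance, inferInstance, fun z => ?_⟩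
  obtain ⟨O, i, k, hz, hk⟩ := hpl z
  exact ⟨O, i, k, hz, by rw [hk, Category.assoc]⟩

theorem isPhCover_pullback₁ (g : U ⟶ T) (E : PreZeroHypercover.{w} T) (hE : IsPhCover E) :
    IsPhCover (E.pullback₁ g) := by
  refine ⟨fun i => MorphismProperty.pullback_fst _ _ (hE.1 i), fun A => ?_⟩
  haveI : IsAffine (A.1 : Scheme.{u}) := A.2
  obtain ⟨F, hF, hr⟩ := (phLifts_of_isPhCover hE (A.1.ι ≫ g)).exists_standardPh
  refine ⟨F, hF, fun j => ?_⟩
  obtain ⟨i, k, hk⟩ := hr j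
  exact ⟨i, pullback.lift (F.f j ≫ A.1.ι) k (by rw [Category.assoc, hk]), pullback.lift_fst _ _ _⟩

theorem isPhCover_bind (E : PreZeroHypercover.{w} T) (hE : IsPhCover E)
    (F : ∀ i, PreZeroHypercover.{w'} (E.X i)) (hF : ∀ i, IsPhCover (F i)) : IsPhCover (E.bind F) := by
  refine ⟨fun p => ?_, fun A => ?_⟩
  · haveI := hE.1 p.1
    haveI := (hF p.1).1 p.2
    exact inferInstanceAs (LocallyOfFiniteType ((F p.1).f p.2 ≫ E.f p.1))
  · haveI : IsAffine (A.1 : Scheme.{u}) := A.2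
    exact ((phLifts_of_isPhCover hE A.1.ι).bind F fun i W _ h => phLifts_of_isPhCover (hF i) h).exists_standardPh

end Groth.Agent.HTopPh

namespace Groth.Agent.HTopPh

open CategoryTheory CategoryTheory.Limits AlgebraicGeometry HTop

theorem PhLifts.exists_hom {T : Scheme.{u}} [IsAffine T] {E : PreZeroHypercover.{w} T}
    (h : PhLifts (𝟙 T) E) : ∃ F : PreZeroHypercover.{0} T, IsStandardPh F ∧ Nonempty (F.Hom E) := by
  obtain ⟨F, hF, hr⟩ := h.exists_standardPh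
  choose i k hk using hr
  exact ⟨F, hF, ⟨⟨i, k, fun j => by rw [hk j, Category.comp_id]⟩⟩⟩

theorem phLifts_of_openCover {T : Scheme.{u}} (𝒰 : T.OpenCover) : PhLifts (𝟙 T) 𝒰.toPreZeroHypercover := by
  refine ⟨T, 𝟙 T, inferInstance, inferInstance, fun z => ?_⟩
  obtain ⟨i, x, hx⟩ := 𝒰.exists_eq z
  haveI := 𝒰.map_prop i
  exact ⟨(𝒰.f i).opensRange, i, (𝒰.f i).isoOpensRange.inv, ⟨x, hx⟩, by simp⟩

theorem phLifts_bind_standardPh {T : Scheme.{u}} [IsAffine T] {E : PreZeroHypercover.{w} T} (hE : IsStandardPh E)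
    (F : ∀ i, PreZeroHypercover.{w'} (E.X i)) (hF : ∀ i, IsStandardPh (F i)) : PhLifts (𝟙 T) (E.bind F) := by
  refine (phLifts_of_standardPh hE fun j => ⟨j, 𝟙 _, by simp⟩).bind F fun i W _ h => ?_
  have := (phLifts_of_standardPh (hF i) (g := 𝟙 _) fun j => ⟨j, 𝟙 _, by simp⟩).comp h
  rwa [Category.comp_id] at this

end Groth.Agent.HTopPh
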