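import Groth.Agent.HTopPh.Square
import Mathlib.RingTheory.FinitePresentation

/-!
ph sheaves and blow-up squares with centre of finite presentation.
-/

set_option backward.isDefEq.respectTransparency false
set_option backward.isDefEq.respectTransparency.types false

universe w u

namespace Groth.Agent.HTopPh

open CategoryTheory CategoryTheory.Limits AlgebraicGeometry IsLocalRing HTop Opposite
open Groth.Agent.HTopCov

theorem isFiniteTypeIdeal_ker {Z X : Scheme.{u}} (i : Z ⟶ X) [IsClosedImmersion i] [LocallyOfFinitePresentation i] :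
    BlowUp.IsFiniteTypeIdeal i.ker := fun U => by
  rw [Scheme.Hom.ker_apply]
  have h : (i.app U.1).hom.FinitePresentation := by
    rw [i.app_eq_appLE]
    exact LocallyOfFinitePresentation.finitePresentation_appLE i U.2 (U.2.preimage i) le_rfl
  have hs : Function.Surjective (i.app U.1).hom := i.app_surjective U.1 U.2
  letI := (i.app U.1).hom.toAlgebra
  haveI : Algebra.FinitePresentation Γ(X, U.1) Γ(Z, i ⁻¹ᵁ U.1) := h
  exact Algebra.FinitePresentation.ker_fG_of_surjective (Algebra.ofId _ _) hs

variable {S : Scheme.{u}} {E Z X' X : Over S}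

theorem existsUnique_glue_blowUp (F : ShPh S) (e : E ⟶ X') (π : E ⟶ Z) (b : X' ⟶ X) (i : Z ⟶ X)
    [IsClosedImmersion i.left] [LocallyOfFinitePresentation i.left]
    (hb : BlowUp.IsBlowUp b.left i.left.ker) (hE : IsPullback e.left π.left b.left i.left)
    (t : F.obj.obj (op Z)) (s' : F.obj.obj (op X')) (hts : F.obj.map π.op t = F.obj.map e.op s') :
    ∃! s : F.obj.obj (op X), F.obj.map i.op s = t ∧ F.obj.map b.op s = s' := by
  haveI : IsProper b.left := BlowUpLib.isProper_of_isBlowUp i.left.ker hb (isFiniteTypeIdeal_ker i.left)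
  have hsupp : ∀ x, x ∈ i.left.ker.support ↔ x ∈ Set.range i.left := fun x => by
    rw [← SetLike.mem_coe, Scheme.Hom.support_ker, i.left.isClosedEmbedding.isClosed_range.closure_eq]
  refine existsUnique_glue F e π b i hE (fun x hx => ?_) (fun K _ l₁ l₂ hl hav => ?_) t s' hts
  · obtain ⟨l, hl, -⟩ := hb.2 _ (X.left.fromSpecResidueField x) (isEffCartier_comap_of_avoid _ _ fun c => by
      rw [Scheme.fromSpecResidueField_apply, hsupp]
      exact hx)
    refine ⟨l (closedPoint (X.left.residueField x)), ?_⟩
    change (l ≫ b.left) _ = x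
    rw [hl, Scheme.fromSpecResidueField_apply]
  · refine BlowUpLib.isBlowUp_hom_ext hb hl (isEffCartier_comap_of_avoid _ _ fun c => ?_)
    rw [hsupp, ← hl]
    exact hav c

end Groth.Agent.HTopPh
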